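import Mathlib.RingTheory.Unramified.LocalStructure
import Mathlib.RingTheory.Unramified.Field
import Mathlib.RingTheory.AdjoinRoot
import Mathlib.LinearAlgebra.FiniteDimensional.Lemmas
import Mathlib.Algebra.MvPolynomial.Nilpotent
import Mathlib.AlgebraicGeometry.Morphisms.Smooth

/-!
# Smooth over reduced is reduced
-/

set_option autoImplicit false
set_option backward.isDefEq.respectTransparency.types false

universe u v

open Polynomial CategoryTheory AlgebraicGeometry

namespace Groth.Agent.SmoothReduced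

/-- Over a field, in a standard étale pair, every element killed nilpotently by the localization is
killed by the `natDegree f`-th power of `g`. -/
lemma pow_natDegree_mul_eq_zero {k : Type u} [Field k] (P : StandardEtalePair k)
    (a : AdjoinRoot P.f) {m j : ℕ} (h : (AdjoinRoot.mk P.f P.g) ^ m * a ^ j = 0) :
    (AdjoinRoot.mk P.f P.g) ^ P.f.natDegree * a = 0 := by
  set G := AdjoinRoot.mk P.f P.g
  have : IsReduced P.Ring := Algebra.FormallyUnramified.isReduced_of_field k P.Ring
  have hred : IsReduced (Localization.Away G) :=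
    isReduced_of_injective P.equivAwayAdjoinRoot.symm P.equivAwayAdjoinRoot.symm.injective
  have hn : IsNilpotent (algebraMap (AdjoinRoot P.f) (Localization.Away G) a) := by
    refine ⟨j, ?_⟩
    apply ((IsLocalization.Away.algebraMap_isUnit (S := Localization.Away G) G).pow m).mul_right_eq_zero.mp
    have h' := congrArg (algebraMap (AdjoinRoot P.f) (Localization.Away G)) h
    rwa [map_mul, map_pow, map_pow, map_zero] at h'
  obtain ⟨⟨_, e, rfl⟩, he⟩ := (IsLocalization.map_eq_zero_iff (Submonoid.powers G) _ _).mp hn.eq_zero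
  have : Module.Finite k (AdjoinRoot P.f) := P.monic_f.finite_adjoinRoot
  have hrank : Module.finrank k (AdjoinRoot P.f) = P.f.natDegree := by
    rw [(AdjoinRoot.powerBasis' P.monic_f).finrank]; rfl
  have key := Module.End.ker_pow_le_ker_pow_finrank (LinearMap.mulLeft k G) e
  rw [hrank, LinearMap.pow_mulLeft, LinearMap.pow_mulLeft] at key
  exact key (show G ^ e * a = 0 from he)

/-- A standard étale algebra over a reduced ring is reduced. -/
theorem isReduced_ring {R : Type u} [CommRing R] [IsReduced R] (P : StandardEtalePair R) :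
    IsReduced P.Ring := by
  set G := AdjoinRoot.mk P.f P.g with hG
  suffices IsReduced (Localization.Away G) from
    isReduced_of_injective P.equivAwayAdjoinRoot P.equivAwayAdjoinRoot.injective
  refine ⟨fun x ⟨j, hx⟩ ↦ ?_⟩
  obtain ⟨a, ⟨_, n, rfl⟩, rfl⟩ := IsLocalization.exists_mk'_eq (Submonoid.powers G) x
  rw [← IsLocalization.mk'_pow, IsLocalization.mk'_eq_zero_iff] at hx
  obtain ⟨⟨_, m, rfl⟩, hm⟩ := hx
  change G ^ m * a ^ j = 0 at hm
  rw [IsLocalization.mk'_eq_zero_iff]
  refine ⟨⟨_, P.f.natDegree, rfl⟩, ?_⟩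
  change G ^ P.f.natDegree * a = 0
  obtain ⟨b, hb⟩ := AdjoinRoot.mk_surjective (G ^ P.f.natDegree * a)
  obtain ⟨a', rfl⟩ := AdjoinRoot.mk_surjective a
  rw [← hb, AdjoinRoot.mk_eq_zero, ← Polynomial.modByMonic_eq_zero_iff_dvd P.monic_f]
  ext i
  rw [Polynomial.coeff_zero]
  refine IsReduced.eq_zero _ ?_
  rw [← mem_nilradical, nilradical_eq_sInf, Ideal.mem_sInf]
  intro p hp
  have : p.IsPrime := hp
  let φ := algebraMap R p.ResidueField
  let Q : StandardEtalePair p.ResidueField := P.map φ
  have hQ : Q.f = P.f.map φ := rfl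
  have hQg : Q.g = P.g.map φ := rfl
  rw [hG, ← map_pow, ← map_pow, ← map_mul, AdjoinRoot.mk_eq_zero] at hm
  have h1 : Q.f ∣ Q.g ^ m * (a'.map φ) ^ j := by
    simpa [hQ, hQg] using Polynomial.map_dvd φ hm
  have h2 := pow_natDegree_mul_eq_zero Q (AdjoinRoot.mk Q.f (a'.map φ)) (m := m) (j := j)
    (by rw [← map_pow, ← map_pow, ← map_mul, AdjoinRoot.mk_eq_zero]; exact h1)
  rw [← map_pow, ← map_mul, AdjoinRoot.mk_eq_zero] at h2
  rw [hG, ← map_pow, ← map_mul, AdjoinRoot.mk_eq_mk] at hb
  have h3 : Q.f ∣ b.map φ := by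
    have h4 : Q.f ∣ (b - P.g ^ P.f.natDegree * a').map φ := Polynomial.map_dvd φ hb
    rw [hQ, P.monic_f.natDegree_map, ← hQ] at h2
    have := dvd_add h4 h2
    simpa [hQg] using this
  rw [← Polynomial.modByMonic_eq_zero_iff_dvd Q.monic_f, hQ, ← Polynomial.map_modByMonic φ P.monic_f] at h3
  have := congrArg (fun q ↦ q.coeff i) h3
  simp only [Polynomial.coeff_map, Polynomial.coeff_zero] at this
  rwa [Ideal.algebraMap_residueField_eq_zero] at this

theorem isReduced_of_isStandardEtale (R S : Type u) [CommRing R] [CommRing S] [Algebra R S]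
    [IsReduced R] [Algebra.IsStandardEtale R S] : IsReduced S := by
  have P : StandardEtalePresentation R S := Algebra.IsStandardEtale.nonempty_standardEtalePresentation.some
  have := isReduced_ring P.P
  exact isReduced_of_injective P.equivRing P.equivRing.injective

/-- A smooth algebra over a reduced ring is reduced. -/
theorem isReduced_of_smooth (R S : Type u) [CommRing R] [CommRing S] [Algebra R S]
    [IsReduced R] [Algebra.Smooth R S] : IsReduced S := by
  refine ⟨fun x hx ↦ ?_⟩
  by_contra h0
  have hne : Submodule.annihilator (Submodule.span S ({x} : Set S)) ≠ ⊤ := by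
    rw [Ne, Ideal.eq_top_iff_one, Submodule.mem_annihilator_span_singleton, one_smul]
    exact h0
  obtain ⟨m, hm, hle⟩ := Ideal.exists_le_maximal _ hne
  obtain ⟨f, hf, n, a, htower, hse⟩ :=
    Algebra.IsSmoothAt.exists_isStandardEtale_mvPolynomial (R := R) (p := m)
  have := isReduced_of_isStandardEtale (MvPolynomial (Fin n) R) (Localization.Away f)
  have h1 := (hx.map (algebraMap S (Localization.Away f))).eq_zero
  obtain ⟨⟨_, k, rfl⟩, hk⟩ := (IsLocalization.map_eq_zero_iff (Submonoid.powers f) _ _).mp h1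
  exact hf (hm.isPrime.mem_of_pow_mem k (hle ((Submodule.mem_annihilator_span_singleton _ _).mpr hk)))

/-- A scheme smooth over a reduced scheme is reduced. -/
theorem isReduced_of_smooth_scheme {X Y : Scheme.{u}} (f : X ⟶ Y) [Smooth f]
    [AlgebraicGeometry.IsReduced Y] : AlgebraicGeometry.IsReduced X := by
  have hpt : ∀ x : X, _root_.IsReduced (X.presheaf.stalk x) := by
    intro x
    obtain ⟨U, hU, hxU, -⟩ := TopologicalSpace.Opens.isBasis_iff_nbhd.mp Y.isBasis_affineOpens
      (show f x ∈ (⊤ : Y.Opens) from trivial)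
    obtain ⟨V, hV, hxV, hVU⟩ := TopologicalSpace.Opens.isBasis_iff_nbhd.mp X.isBasis_affineOpens
      (show x ∈ f ⁻¹ᵁ U from hxU)
    have hs := f.smooth_appLE hU hV hVU
    algebraize [(f.appLE U V hVU).hom]
    have := isReduced_of_smooth Γ(Y, U) Γ(X, V)
    let := X.presheaf.algebra_section_stalk (⟨x, hxV⟩ : V)
    have := hV.isLocalization_stalk ⟨x, hxV⟩
    exact isReduced_localizationPreserves (hV.primeIdealOf ⟨x, hxV⟩).asIdeal.primeCompl
      (X.presheaf.stalk x) inferInstance
  exact isReduced_of_isReduced_stalk X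

end Groth.Agent.SmoothReduced
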